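import Groth.Agent.S2150
import Mathlib.AlgebraicGeometry.Geometrically.Irreducible
import Mathlib.AlgebraicGeometry.Pullbacks

/-!
# Geometric irreducibility of a field extension, as a morphism of spectra
-/

set_option autoImplicit false

universe u

noncomputable section

open CategoryTheory Limits AlgebraicGeometry
open scoped TensorProduct

namespace Groth.Agent.GenHyperplane

variable {k K : Type u} [Field k] [Field K] [Algebra k K]

theorem geometricallyIrreducible_iff_separable :
    GeometricallyIrreducible (Spec.map (CommRingCat.ofHom (algebraMap k K))) ↔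
      ∀ α : K, IsSeparable k α → α ∈ Set.range (algebraMap k K) := by
  rw [← S2150.result (k := k) (K := K)]
  constructor
  · intro h k' _ _
    have h1 := h.geometrically_irreducibleSpace (Spec.map (CommRingCat.ofHom (algebraMap k k'))) _ _
      (IsPullback.of_hasPullback _ _).flip
    exact (pullbackSpecIso k k' K).hom.homeomorph.irreducibleSpace_iff.1 h1
  · refine fun h => ⟨fun k' _ y Z fst snd hsq => ?_⟩
    obtain ⟨φ, rfl⟩ := Spec.map_surjective y
    algebraize [φ.hom]
    haveI := h k'
    haveI : IrreducibleSpace ↥(pullback (Spec.map (CommRingCat.ofHom (algebraMap k k')))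
        (Spec.map (CommRingCat.ofHom (algebraMap k K)))) :=
      (pullbackSpecIso k k' K).hom.homeomorph.irreducibleSpace_iff.2 (h k')
    exact (IsPullback.flip hsq).isoPullback.hom.homeomorph.irreducibleSpace_iff.2 this

end Groth.Agent.GenHyperplane
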