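import Mathlib.RingTheory.MvPolynomial.MonomialOrder
import Mathlib.Data.Finsupp.MonomialOrder
import Mathlib.FieldTheory.PurelyInseparable.Basic
import Mathlib.RingTheory.Algebraic.Integral
import Mathlib.RingTheory.MvPolynomial.Basic

/-!
# Coefficients of polynomials algebraic over the polynomials with coefficients in a subfield
-/

set_option autoImplicit false

universe u v

noncomputable section

open MvPolynomial

namespace Groth.Agent.GenHyperplane

variable {σ : Type v} [LinearOrder σ] [WellFoundedGT σ] {F B : Type u} [Field F] [Field B] [Algebra F B]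

variable (σ F B) in
/-- The polynomials with coefficients in `F`. -/
abbrev polySub : Subalgebra F (MvPolynomial σ B) := Algebra.adjoin F (Set.range X)

theorem coeff_mem_range {p : MvPolynomial σ B} (hp : p ∈ polySub σ F B) (d : σ →₀ ℕ) :
    p.coeff d ∈ Set.range (algebraMap F B) := by
  have hle : polySub σ F B ≤ (MvPolynomial.mapAlgHom (σ := σ) (Algebra.ofId F B)).range := by
    refine Algebra.adjoin_le ?_
    rintro _ ⟨i, rfl⟩
    exact ⟨X i, by simp⟩
  obtain ⟨q, rfl⟩ := hle hp
  exact ⟨q.coeff d, (MvPolynomial.coeff_map (algebraMap F B) q d).symm⟩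

theorem isAlgebraic_leadingCoeff {f : MvPolynomial σ B} (hf : f ≠ 0) (h : IsAlgebraic (polySub σ F B) f) :
    IsAlgebraic F ((MonomialOrder.lex (σ := σ)).leadingCoeff f) := by
  classical
  let m : MonomialOrder σ := MonomialOrder.lex
  obtain ⟨P, hP0, hP⟩ := h
  let δ : ℕ → σ →₀ ℕ := fun i => m.degree (P.coeff i : MvPolynomial σ B) + i • m.degree f
  obtain ⟨i₀, hi₀, hmax⟩ := P.support.exists_max_image (fun i => m.toSyn (δ i))
    (Polynomial.support_nonempty.2 hP0)
  have hc : ∀ i ∈ P.support, ((P.coeff i : MvPolynomial σ B) * f ^ i).coeff (δ i₀) =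
      if δ i = δ i₀ then m.leadingCoeff (P.coeff i : MvPolynomial σ B) * m.leadingCoeff f ^ i else 0 := by
    intro i hi
    have hci : (P.coeff i : MvPolynomial σ B) ≠ 0 := fun h0 => Polynomial.mem_support_iff.1 hi (Subtype.ext h0)
    have hd : m.degree ((P.coeff i : MvPolynomial σ B) * f ^ i) = δ i := by
      rw [m.degree_mul hci (pow_ne_zero _ hf), m.degree_pow]
    split_ifs with he
    · rw [← he, ← hd, ← m.leadingCoeff_pow, ← m.leadingCoeff_mul]
      rfl
    · refine m.coeff_eq_zero_of_lt ?_
      rw [hd]
      exact lt_of_le_of_ne (hmax i hi) fun e => he (m.toSyn.injective e)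
  choose r hr using fun i => coeff_mem_range (σ := σ) (F := F) (B := B) (P.coeff i).2
    (m.degree (P.coeff i : MvPolynomial σ B))
  have hlc : ∀ i, algebraMap F B (r i) = m.leadingCoeff (P.coeff i : MvPolynomial σ B) := fun i => hr i
  let T := P.support.filter fun i => δ i = δ i₀
  refine ⟨∑ i ∈ T, Polynomial.monomial i (r i), fun h0 => ?_, ?_⟩
  · have h1 := congrArg (fun Q : Polynomial F => Q.coeff i₀) h0
    simp only [Polynomial.finsetSum_coeff, Polynomial.coeff_monomial, Finset.sum_ite_eq', Polynomial.coeff_zero] at h1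
    rw [if_pos (show i₀ ∈ T from Finset.mem_filter.2 ⟨hi₀, rfl⟩)] at h1
    have h2 := hlc i₀
    rw [h1, map_zero, eq_comm, m.leadingCoeff_eq_zero_iff] at h2
    exact Polynomial.mem_support_iff.1 hi₀ (Subtype.ext h2)
  · rw [map_sum]
    have h3 : ∑ i ∈ P.support, ((P.coeff i : MvPolynomial σ B) * f ^ i) = 0 := by
      rw [Polynomial.aeval_def, Polynomial.eval₂_eq_sum, Polynomial.sum_def] at hP
      exact hP
    have h4 := congrArg (MvPolynomial.coeff (δ i₀)) h3
    rw [MvPolynomial.coeff_sum, MvPolynomial.coeff_zero, Finset.sum_congr rfl hc, ← Finset.sum_filter] at h4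
    refine Eq.trans (Finset.sum_congr rfl fun i _ => ?_) h4
    rw [Polynomial.aeval_monomial, hlc]

theorem isAlgebraic_coeff {f : MvPolynomial σ B} (h : IsAlgebraic (polySub σ F B) f) (d : σ →₀ ℕ) :
    IsAlgebraic F (f.coeff d) := by
  classical
  induction hn : f.support.card using Nat.strong_induction_on generalizing f with
  | _ n ih =>
  let m : MonomialOrder σ := MonomialOrder.lex
  by_cases hf : f = 0
  · rw [hf, MvPolynomial.coeff_zero]; exact isAlgebraic_zero
  have ha := isAlgebraic_leadingCoeff hf h
  by_cases hd : d = m.degree f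
  · rw [hd]; exact ha
  let g := f - monomial (m.degree f) (m.leadingCoeff f)
  have hg : ∀ e, g.coeff e = if m.degree f = e then 0 else f.coeff e := fun e => by
    simp only [g, MvPolynomial.coeff_sub, MvPolynomial.coeff_monomial]
    split_ifs with he
    · rw [← he]; exact sub_self _
    · exact sub_zero _
  have hlt : g.support.card < n := by
    rw [← hn]
    refine Finset.card_lt_card (Finset.ssubset_iff_of_subset (fun e he => ?_) |>.2 ⟨m.degree f, ?_, ?_⟩)
    · rw [MvPolynomial.mem_support_iff, hg] at he
      rw [MvPolynomial.mem_support_iff]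
      split_ifs at he with h'
      · exact absurd rfl he
      · exact he
    · rw [MvPolynomial.mem_support_iff]; exact m.coeff_degree_ne_zero_iff.2 hf
    · rw [MvPolynomial.mem_support_iff, hg, if_pos rfl]; exact fun h => h rfl
  have hmono : IsAlgebraic (polySub σ F B) (monomial (m.degree f) (m.leadingCoeff f)) := by
    rw [MvPolynomial.monomial_eq]
    refine IsAlgebraic.mul ?_ ?_
    · have h1 : IsAlgebraic F (C (m.leadingCoeff f) : MvPolynomial σ B) :=
        ha.algHom (IsScalarTower.toAlgHom F B (MvPolynomial σ B))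
      exact h1.extendScalars (algebraMap F (polySub σ F B)).injective
    · have hmem : (m.degree f).prod (fun n e => (X n : MvPolynomial σ B) ^ e) ∈ polySub σ F B :=
        Subalgebra.prod_mem _ fun i _ => Subalgebra.pow_mem _ (Algebra.subset_adjoin (Set.mem_range_self i)) _
      exact isAlgebraic_algebraMap (⟨_, hmem⟩ : polySub σ F B)
  have := ih g.support.card hlt (h.sub hmono) rfl
  rwa [hg, if_neg (Ne.symm hd)] at this

end Groth.Agent.GenHyperplane
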