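import Groth.Agent.GenHyperplane.Coeff
import Groth.Agent.S6333
import Mathlib.FieldTheory.PrimitiveElement
import Mathlib.FieldTheory.SeparableClosure
import Mathlib.FieldTheory.PurelyInseparable.PerfectClosure
import Mathlib.RingTheory.AlgebraicIndependent.Transcendental
import Mathlib.RingTheory.Polynomial.RationalRoot

/-!
# Separable closedness of a line in two pencils
-/

set_option autoImplicit false

universe u

noncomputable section

namespace Groth.Agent.GenHyperplane

variable {Ω : Type u} [Field Ω]

/-- Separability transfers along a homomorphism of the big field. -/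
theorem isSeparable_map {k₁ k₂ : Type u} [Field k₁] [Field k₂] [Algebra k₁ Ω] [Algebra k₂ Ω]
    (L₁ : IntermediateField k₁ Ω) (L₂ : IntermediateField k₂ Ω) (σ : Ω →+* Ω) (h : ∀ a ∈ L₁, σ a ∈ L₂)
    {α : Ω} (hα : IsSeparable L₁ α) : IsSeparable L₂ (σ α) := by
  let φ : L₁ →+* L₂ := (σ.comp L₁.val.toRingHom).codRestrict L₂.toSubfield.toSubring fun a => h a.1 a.2
  have hP : Polynomial.Separable ((minpoly L₁ α).map φ) := Polynomial.Separable.map hα
  refine hP.of_dvd (minpoly.dvd L₂ (σ α) ?_)
  rw [Polynomial.aeval_def, Polynomial.eval₂_map]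
  have hc : (algebraMap L₂ Ω).comp φ = σ.comp (algebraMap L₁ Ω) := rfl
  rw [hc, ← Polynomial.hom_eval₂, ← Polynomial.aeval_def, minpoly.aeval, map_zero]

/-- Separability over a smaller intermediate field gives separability over a larger one. -/
theorem isSeparable_of_le {F : Type u} [Field F] [Algebra F Ω] {L M : IntermediateField F Ω} (h : L ≤ M)
    {α : Ω} (hα : IsSeparable L α) : IsSeparable M α :=
  isSeparable_map L M (RingHom.id Ω) (fun _ ha => h ha) hα

section Base

variable {F : Type u} [Field F] [Algebra F Ω]

theorem mem_perfectClosure_of_isAlgebraic (hsep : ∀ α : Ω, IsSeparable F α → α ∈ Set.range (algebraMap F Ω))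
    {x : Ω} (hx : IsAlgebraic F x) : x ∈ perfectClosure F Ω := by
  let E := algebraicClosure F Ω
  obtain ⟨n, ⟨y, hy⟩, he⟩ := IsPurelyInseparable.pow_mem (separableClosure F E) (ringExpChar F)
    (⟨x, mem_algebraicClosure_iff.2 hx⟩ : E)
  refine ⟨n, ?_⟩
  have hys : IsSeparable F (y : Ω) :=
    IsSeparable.map E.val E.val.toRingHom.injective (mem_separableClosure_iff.1 hy)
  obtain ⟨a, ha⟩ := hsep _ hys
  exact ⟨a, ha.trans (congrArg Subtype.val he)⟩

theorem eq_of_separable_of_perfect {L : IntermediateField F Ω} {α : Ω} (hs : IsSeparable L α)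
    (hp : α ∈ perfectClosure L Ω) : α ∈ L := by
  have h : α ∈ separableClosure L Ω ⊓ perfectClosure L Ω := ⟨mem_separableClosure_iff.2 hs, hp⟩
  rw [separableClosure_inf_perfectClosure, IntermediateField.mem_bot] at h
  obtain ⟨b, hb⟩ := h
  exact hb ▸ b.2

theorem perfectClosure_tower {L : IntermediateField F Ω} {x : Ω} (hx : x ∈ perfectClosure F Ω) :
    x ∈ perfectClosure L Ω := by
  obtain ⟨n, a, ha⟩ := hx
  haveI := ringExpChar.expChar F
  haveI : ExpChar L (ringExpChar F) := expChar_of_injective_algebraMap (algebraMap F L).injective _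
  exact (mem_perfectClosure_iff_pow_mem (ringExpChar F)).2 ⟨n, algebraMap F L a, ha⟩

/-- Two transversal pencils: what is separable over the first line and rational over the constants of
the second is rational. -/
theorem core (hsep : ∀ α : Ω, IsSeparable F α → α ∈ Set.range (algebraMap F Ω)) (u u' : Ω)
    (hind : Transcendental (IntermediateField.adjoin F {u'}) u) (α : Ω)
    (hα : IsSeparable (IntermediateField.adjoin F {u}) α)
    (hmem : α ∈ IntermediateField.adjoin F
      ({u} ∪ {β : Ω | IsSeparable (IntermediateField.adjoin F {u'}) β})) :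
    α ∈ IntermediateField.adjoin F {u} := by
  classical
  let Fu := IntermediateField.adjoin F ({u} : Set Ω)
  let Fu' := IntermediateField.adjoin F ({u'} : Set Ω)
  let B : IntermediateField F Ω := (separableClosure Fu' Ω).restrictScalars F
  have hBalg : Algebra.IsAlgebraic Fu' (separableClosure Fu' Ω) := inferInstance
  have hu : Transcendental B u := fun halg => by
    have halg' : IsAlgebraic (separableClosure Fu' Ω) u := halg
    exact hind (halg'.restrictScalars Fu')
  have hle : IntermediateField.adjoin F ({u} ∪ {β : Ω | IsSeparable Fu' β}) ≤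
      (IntermediateField.adjoin B ({u} : Set Ω)).restrictScalars F := by
    refine IntermediateField.adjoin_le_iff.2 ?_
    rintro z (rfl | hz)
    · exact IntermediateField.subset_adjoin B _ rfl
    · exact (IntermediateField.adjoin B ({u} : Set Ω)).algebraMap_mem ⟨z, mem_separableClosure_iff.2 hz⟩
  let S := Algebra.adjoin F ({u} : Set Ω)
  have halgS : IsAlgebraic S α := by
    open scoped IntermediateField.algebraAdjoinAdjoin in
    exact (IsFractionRing.isAlgebraic_iff S Fu Ω).2 hα.isIntegral.isAlgebraic
  obtain ⟨d, hd0, hint⟩ := halgS.exists_integral_multiple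
  have hdu : (d : Ω) ∈ Fu := IntermediateField.algebra_adjoin_le_adjoin F _ d.2
  have hβ : (d : Ω) * α ∈ IntermediateField.adjoin B ({u} : Set Ω) :=
    mul_mem (hle (IntermediateField.adjoin.mono F _ _ Set.subset_union_left hdu)) (hle hmem)
  obtain ⟨r, s, hrs⟩ := (IntermediateField.mem_adjoin_simple_iff B _).1 hβ
  let ev : MvPolynomial PUnit.{1} B →ₐ[F] Ω := (MvPolynomial.aeval (fun _ => u)).restrictScalars F
  have hev : Function.Injective ev := by
    have : AlgebraicIndependent B (fun _ : PUnit.{1} => u) := algebraicIndependent_unique_type_iff.2 hu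
    exact this
  have hevS : (Algebra.adjoin F (Set.range MvPolynomial.X) : Subalgebra F (MvPolynomial PUnit.{1} B)).map ev = S := by
    rw [AlgHom.map_adjoin, ← Set.range_comp]
    congr 1
    ext z
    simp [ev, eq_comm]
  obtain ⟨p, hp⟩ : ∃ p : MvPolynomial PUnit.{1} B, ev p = (d : Ω) * α := by
    let φ : Polynomial B →+* Ω := (Polynomial.aeval u : Polynomial B →ₐ[B] Ω).toRingHom
    have hφ : Function.Injective φ := transcendental_iff_injective.1 hu
    letI : Algebra (Polynomial B) Ω := φ.toAlgebra
    let K := FractionRing (Polynomial B)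
    let ψ : K →+* Ω := IsFractionRing.lift hφ
    let ψa : K →ₐ[Polynomial B] Ω := { ψ with commutes' := fun q => IsFractionRing.lift_algebraMap hφ q }
    let q : K := algebraMap (Polynomial B) K r / algebraMap (Polynomial B) K s
    have hq : ψa q = (d : Ω) * α := by
      rw [hrs, map_div₀, AlgHom.commutes, AlgHom.commutes]
      rfl
    have hi : IsIntegral (Polynomial B) ((d : Ω) * α) := by
      obtain ⟨P, hP, hP0⟩ := hint
      let e₀ : Polynomial B ≃+* φ.range :=
        RingEquiv.ofBijective φ.rangeRestrict ⟨fun a b e => hφ (congrArg Subtype.val e), φ.rangeRestrict_surjective⟩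
      let χ : S →+* Polynomial B := by
        refine e₀.symm.toRingHom.comp (S.val.toRingHom.codRestrict φ.range fun z => ?_)
        have hz : (z : Ω) ∈ S := z.2
        have : S ≤ ((Polynomial.aeval u : Polynomial B →ₐ[B] Ω).restrictScalars F).range :=
          Algebra.adjoin_le fun w hw => ⟨Polynomial.X, by simp [Set.mem_singleton_iff.1 hw]⟩
        exact this hz
      refine ⟨P.map χ, hP.map χ, ?_⟩
      rw [Polynomial.eval₂_map]
      have hχ : (algebraMap (Polynomial B) Ω).comp χ = algebraMap S Ω := by
        ext z
        exact congrArg Subtype.val (e₀.apply_symm_apply ⟨(z : Ω), _⟩)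
      rw [hχ]
      exact hP0
    rw [← hq] at hi
    obtain ⟨c, hc⟩ := IsIntegrallyClosed.isIntegral_iff.1 ((isIntegral_algHom_iff ψa ψa.toRingHom.injective).1 hi)
    refine ⟨Polynomial.eval₂ MvPolynomial.C (MvPolynomial.X PUnit.unit) c, ?_⟩
    rw [← hq, ← hc, AlgHom.commutes]
    show (MvPolynomial.aeval fun _ : PUnit.{1} => u) (Polynomial.eval₂ MvPolynomial.C (MvPolynomial.X PUnit.unit) c) = φ c
    clear hc
    induction c using Polynomial.induction_on' with
    | add a b ha hb => rw [Polynomial.eval₂_add, map_add, ha, hb, map_add]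
    | monomial n a => simp [φ]
  have halgp : IsAlgebraic (polySub PUnit.{1} F B) p := by
    obtain ⟨P, hP, hP0⟩ := hint
    let χ : polySub PUnit.{1} F B ≃+* S :=
      (((polySub PUnit.{1} F B).equivMapOfInjective ev hev).trans (Subalgebra.equivOfEq _ _ hevS)).toRingEquiv
    refine ⟨P.map χ.symm.toRingHom, (hP.map _).ne_zero, hev ?_⟩
    rw [map_zero, Polynomial.aeval_def]
    show ev.toRingHom _ = 0
    rw [Polynomial.hom_eval₂, Polynomial.eval₂_map]
    have hχ : ((ev.toRingHom).comp (algebraMap (polySub PUnit.{1} F B) _)).comp χ.symm.toRingHom = algebraMap S Ω := by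
      ext z
      show ev (χ.symm z).1 = (z : Ω)
      exact congrArg Subtype.val (χ.apply_symm_apply z)
    rw [hχ]
    show Polynomial.eval₂ _ (ev p) P = 0
    rw [hp]
    exact hP0
  have hperf : (d : Ω) * α ∈ perfectClosure Fu Ω := by
    rw [← hp, p.as_sum, map_sum]
    refine sum_mem fun e _ => ?_
    rw [show ev (MvPolynomial.monomial e (p.coeff e)) = ((MvPolynomial.coeff e p : B) : Ω) * e.prod (fun _ n => u ^ n) from
      MvPolynomial.aeval_monomial _ _ _]
    refine mul_mem ?_ (prod_mem fun i _ => pow_mem ?_ _)
    · exact perfectClosure_tower (mem_perfectClosure_of_isAlgebraic hsep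
        ((isAlgebraic_coeff halgp e).algHom (B.val)))
    · exact (perfectClosure Fu Ω).algebraMap_mem ⟨u, IntermediateField.subset_adjoin F _ rfl⟩
  have hd0' : (d : Ω) ≠ 0 := fun h => hd0 (Subtype.ext h)
  refine eq_of_separable_of_perfect hα ?_
  have := mul_mem (inv_mem ((perfectClosure Fu Ω).algebraMap_mem ⟨(d : Ω), hdu⟩)) hperf
  rwa [show algebraMap Fu Ω ⟨(d : Ω), hdu⟩ = (d : Ω) from rfl, inv_mul_cancel_left₀ hd0'] at this

end Base

/-- Finitely many separable subextensions of a finitely generated extension. -/
theorem finite_le_separableClosure {M : Type u} [Field M] [Algebra M Ω] (hfg : (⊤ : IntermediateField M Ω).FG) :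
    {I : IntermediateField M Ω | I ≤ separableClosure M Ω}.Finite := by
  haveI : FiniteDimensional M (algebraicClosure M Ω) := Groth.Agent.S6333.result hfg
  let S := separableClosure M Ω
  have hle : S ≤ algebraicClosure M Ω := fun a ha =>
    mem_algebraicClosure_iff.2 ((mem_separableClosure_iff.1 ha).isIntegral.isAlgebraic)
  haveI : FiniteDimensional M S :=
    FiniteDimensional.of_injective (IntermediateField.inclusion hle).toLinearMap
      (IntermediateField.inclusion_injective hle)
  haveI : Finite (IntermediateField M S) :=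
    (Field.exists_primitive_element_iff_finite_intermediateField M S).1
      ⟨inferInstance, Field.exists_primitive_element M S⟩
  refine (Set.finite_range fun J : IntermediateField M S => IntermediateField.lift J).subset fun I hI => ?_
  exact ⟨IntermediateField.restrict hI, IntermediateField.lift_restrict hI⟩

end Groth.Agent.GenHyperplane
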